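import Groth.Agent.ModPairLib.Basic
import Groth.Agent.GrpSchLib.FieldSmooth
import Mathlib

/-! Scheme-theoretic dominance of the affinization morphism on the fibres over a discrete valuation ring. -/

set_option autoImplicit false
set_option backward.isDefEq.respectTransparency false
set_option backward.isDefEq.respectTransparency.types false

universe u

open CategoryTheory CategoryTheory.Limits AlgebraicGeometry TopologicalSpace

namespace Groth.Agent.GrpdDvrFibre

/-- A global section which is locally a multiple of a regular section is a multiple. -/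
theorem exists_mul_of_locally {X : Scheme.{u}} (r x : Γ(X, ⊤))
    (hreg : ∀ U : X.affineOpens, ∀ z : Γ(X, U.1), X.presheaf.map (homOfLE le_top).op r * z = 0 → z = 0)
    (hx : ∀ U : X.affineOpens, X.presheaf.map (homOfLE le_top).op x ∈
      Ideal.span {X.presheaf.map (homOfLE (le_top : U.1 ≤ ⊤)).op r}) :
    ∃ y, r * y = x := by
  choose d hd using fun U => Ideal.mem_span_singleton'.1 (hx U)
  have hcomp : TopCat.Presheaf.IsCompatible X.sheaf.1 (fun U : X.affineOpens => U.1) d := by
    intro U V
    refine X.IsSheaf.section_ext fun p hp => ?_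
    obtain ⟨_, ⟨W, hW, rfl⟩, hpW, hWUV⟩ := X.isBasis_affineOpens.exists_subset_of_mem_open hp (U.1 ⊓ V.1).isOpen
    refine ⟨W, hWUV, hpW, ?_⟩
    change X.presheaf.map (homOfLE hWUV).op (X.presheaf.map (Opens.infLELeft U.1 V.1).op (d U)) =
      X.presheaf.map (homOfLE hWUV).op (X.presheaf.map (Opens.infLERight U.1 V.1).op (d V))
    simp only [← ConcreteCategory.comp_apply, ← Functor.map_comp]
    have hUW : W ≤ U.1 := le_trans hWUV inf_le_left
    have hVW : W ≤ V.1 := le_trans hWUV inf_le_right
    have e : ∀ (O : X.affineOpens) (h : W ≤ O.1), X.presheaf.map (homOfLE h).op (d O) *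
        X.presheaf.map (homOfLE (le_top : W ≤ ⊤)).op r = X.presheaf.map (homOfLE (le_top : W ≤ ⊤)).op x := by
      intro O h
      have := congrArg (X.presheaf.map (homOfLE h).op) (hd O)
      rw [map_mul] at this
      simp only [← ConcreteCategory.comp_apply, ← Functor.map_comp] at this
      exact this
    exact sub_eq_zero.1 (hreg ⟨W, hW⟩
      (X.presheaf.map (homOfLE hUW).op (d U) - X.presheaf.map (homOfLE hVW).op (d V))
      (by rw [mul_comm, sub_mul, e U hUW, e V hVW, sub_self]))
  obtain ⟨y, hy, -⟩ := X.sheaf.existsUnique_gluing' (fun U : X.affineOpens => U.1) ⊤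
    (fun U => homOfLE le_top) (iSup_affineOpens_eq_top X).ge d hcomp
  have hy0 : ∃ y0 : Γ(X, ⊤), ∀ U : X.affineOpens, X.presheaf.map (homOfLE (le_top : U.1 ≤ ⊤)).op y0 = d U := ⟨y, hy⟩
  obtain ⟨y, hy⟩ := hy0
  refine ⟨y, X.IsSheaf.section_ext fun p _ => ?_⟩
  obtain ⟨_, ⟨W, hW, rfl⟩, hpW, -⟩ :=
    X.isBasis_affineOpens.exists_subset_of_mem_open (Set.mem_univ p) isOpen_univ
  refine ⟨W, le_top, hpW, ?_⟩
  have h1 : X.presheaf.map (homOfLE (le_top : W ≤ ⊤)).op y = d ⟨W, hW⟩ := hy ⟨W, hW⟩
  show X.presheaf.map (homOfLE (le_top : W ≤ ⊤)).op (r * y) = X.presheaf.map (homOfLE (le_top : W ≤ ⊤)).op x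
  rw [map_mul, h1, mul_comm]
  exact hd ⟨W, hW⟩

variable {A : Type u} [CommRing A] [IsDomain A]

/-- Over an affine integral base, dominance of the affinization is preserved by principal closed subschemes. -/
theorem ker_fibre_eq_bot_of_closedImmersion [IsPrincipalIdealRing A] {X T : Scheme.{u}} [IsAffine T]
    (f : X ⟶ Spec (CommRingCat.of A)) [Flat f] [QuasiCompact f] [QuasiSeparated f]
    (g : Spec Γ(X, ⊤) ⟶ Spec (CommRingCat.of A)) (hg : X.toSpecΓ ≫ g = f)
    (τ : T ⟶ Spec (CommRingCat.of A)) [IsClosedImmersion τ] :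
    (pullback.map f τ g τ X.toSpecΓ (𝟙 _) (𝟙 _) ((Category.comp_id f).trans hg.symm)
      ((Category.comp_id _).trans (Category.id_comp _).symm)).ker = ⊥ := by
  classical
  set Φ := pullback.map f τ g τ X.toSpecΓ (𝟙 _) (𝟙 _) ((Category.comp_id f).trans hg.symm)
      ((Category.comp_id _).trans (Category.id_comp _).symm) with hΦ
  let B := Spec Γ(X, ⊤)
  haveI : CompactSpace X := (quasiCompact_iff_compactSpace f).1 inferInstance
  haveI : CompactSpace ↥(pullback f τ) :=
    (quasiCompact_iff_compactSpace (pullback.fst f τ ≫ f)).1 inferInstance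
  haveI : IsAffine (pullback g τ) := inferInstance
  haveI : QuasiCompact Φ := by
    have : QuasiCompact (Φ ≫ pullback.fst g τ ≫ g) := by
      rw [hΦ, pullback.lift_fst_assoc, Category.assoc, hg]; infer_instance
    exact QuasiCompact.of_comp Φ (pullback.fst g τ ≫ g)
  refine Scheme.IdealSheafData.ext_of_isAffine ?_
  rw [Scheme.Hom.ker_apply, Scheme.IdealSheafData.ideal_bot]
  refine (Submodule.eq_bot_iff _).2 fun z hz => ?_
  obtain ⟨b, rfl⟩ : ∃ b, (pullback.fst g τ).appTop b = z :=
    (pullback.fst g τ).app_surjective (⊤ : B.Opens) (isAffineOpen_top B) z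
  have hbx : (pullback.fst f τ).appTop (X.toSpecΓ.appTop b) = 0 := by
    rw [← ConcreteCategory.comp_apply, ← Scheme.Hom.comp_appTop,
      show pullback.fst f τ ≫ X.toSpecΓ = Φ ≫ pullback.fst g τ from (pullback.lift_fst _ _ _).symm,
      Scheme.Hom.comp_appTop, ConcreteCategory.comp_apply]
    exact hz
  set x := X.toSpecΓ.appTop b with hxdef
  haveI : IsIso X.toSpecΓ.appTop := by rw [Scheme.toSpecΓ_appTop]; infer_instance
  -- the generator of the ideal of `T`
  let S := Spec (CommRingCat.of A)
  haveI : IsPrincipalIdealRing Γ(S, ⊤) :=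
    IsPrincipalIdealRing.of_surjective (Scheme.ΓSpecIso (CommRingCat.of A)).inv.hom
      (ConcreteCategory.bijective_of_isIso (Scheme.ΓSpecIso (CommRingCat.of A)).inv).2
  obtain ⟨a, ha⟩ := (IsPrincipalIdealRing.principal (τ.ker.ideal ⟨⊤, isAffineOpen_top S⟩)).principal
  have haτ : τ.appTop a = 0 := by
    have : a ∈ τ.ker.ideal ⟨⊤, isAffineOpen_top S⟩ := by rw [ha]; exact Submodule.mem_span_singleton_self a
    rw [Scheme.Hom.ker_apply] at this
    exact this
  let r := f.appTop a
  have hrU : ∀ U : X.affineOpens, X.presheaf.map (homOfLE (le_top : U.1 ≤ ⊤)).op r = f.appLE ⊤ U.1 le_top a :=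
    fun U => rfl
  have hx : ∀ U : X.affineOpens, X.presheaf.map (homOfLE le_top).op x ∈
      Ideal.span {X.presheaf.map (homOfLE (le_top : U.1 ≤ ⊤)).op r} := by
    intro U
    rw [hrU, ← Set.image_singleton (f := f.appLE ⊤ U.1 le_top), ← Ideal.map_span]
    have e : Ideal.span {a} = τ.ker.ideal ⟨⊤, isAffineOpen_top S⟩ := ha.symm
    rw [e, ← ModPairLib.ideal_comap τ.ker f ⟨⊤, isAffineOpen_top S⟩ U le_top,
      ← Scheme.IdealSheafData.ker_fst_of_isClosedImmersion, Scheme.Hom.ker_apply]
    show (pullback.fst f τ).app U.1 _ = 0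
    rw [← ConcreteCategory.comp_apply, (pullback.fst f τ).naturality, ConcreteCategory.comp_apply]
    show ((pullback f τ).presheaf.map _) ((pullback.fst f τ).appTop x) = 0
    rw [hbx, map_zero]
  obtain ⟨y, hy⟩ : ∃ y, r * y = x := by
    by_cases ha0 : a = 0
    · refine ⟨0, ?_⟩
      rw [mul_zero]
      refine (X.IsSheaf.section_ext fun p _ => ?_)
      obtain ⟨_, ⟨W, hW, rfl⟩, hpW, -⟩ :=
        X.isBasis_affineOpens.exists_subset_of_mem_open (Set.mem_univ p) isOpen_univ
      refine ⟨W, le_top, hpW, ?_⟩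
      rw [map_zero]
      have := hx ⟨W, hW⟩
      rw [show r = 0 by simp [r, ha0], map_zero, Ideal.span_singleton_eq_bot.2 rfl] at this
      exact ((Submodule.mem_bot _).1 this).symm
    · have hinj : ∀ U : X.affineOpens, ∀ z : Γ(X, U.1),
          X.presheaf.map (homOfLE le_top).op r * z = 0 → z = 0 := by
        intro U z hz
        rw [hrU] at hz
        have hfl := Flat.flat_appLE f (isAffineOpen_top S) U.2 le_top
        algebraize [(f.appLE ⊤ U.1 le_top).hom]
        haveI : IsDomain Γ(S, ⊤) := (Scheme.ΓSpecIso (CommRingCat.of A)).commRingCatIsoToRingEquiv.toMulEquiv.isDomain _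
        haveI : Module.Flat Γ(S, ⊤) Γ(X, U.1) := hfl
        have h1 : IsSMulRegular Γ(S, ⊤) a := (isRegular_iff_ne_zero.2 ha0).left.isSMulRegular
        refine (IsSMulRegular.of_flat (S := Γ(X, U.1)) h1) ?_
        simp only [smul_eq_mul, mul_zero]
        exact hz
      exact exists_mul_of_locally r x hinj hx
  obtain ⟨y', hy'⟩ := (ConcreteCategory.bijective_of_isIso X.toSpecΓ.appTop).2 y
  have hb : g.appTop a * y' = b := by
    refine (ConcreteCategory.bijective_of_isIso X.toSpecΓ.appTop).1 ?_
    rw [map_mul, hy', ← hxdef, ← hy]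
    congr 1
    rw [← ConcreteCategory.comp_apply, ← Scheme.Hom.comp_appTop, hg]
  rw [← hb, map_mul, ← ConcreteCategory.comp_apply, ← Scheme.Hom.comp_appTop, pullback.condition,
    Scheme.Hom.comp_appTop, ConcreteCategory.comp_apply, haτ, map_zero, zero_mul]

/-- Over a flat base change. -/
theorem ker_fibre_eq_bot_of_flat {X T : Scheme.{u}}
    (f : X ⟶ Spec (CommRingCat.of A)) [QuasiCompact f] [QuasiSeparated f]
    (g : Spec Γ(X, ⊤) ⟶ Spec (CommRingCat.of A)) (hg : X.toSpecΓ ≫ g = f)
    (τ : T ⟶ Spec (CommRingCat.of A)) [Flat τ] :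
    (pullback.map f τ g τ X.toSpecΓ (𝟙 _) (𝟙 _) ((Category.comp_id f).trans hg.symm)
      ((Category.comp_id _).trans (Category.id_comp _).symm)).ker = ⊥ := by
  haveI : CompactSpace X := (quasiCompact_iff_compactSpace f).1 inferInstance
  haveI : IsSchemeTheoreticallyDominant X.toSpecΓ := ⟨X.ker_toSpecΓ⟩
  haveI : QuasiCompact (X.toSpecΓ ≫ g) := by rw [hg]; infer_instance
  haveI : QuasiCompact X.toSpecΓ := QuasiCompact.of_comp X.toSpecΓ g
  have H : IsPullback (pullback.fst f τ) (pullback.map f τ g τ X.toSpecΓ (𝟙 _) (𝟙 _)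
      ((Category.comp_id f).trans hg.symm) ((Category.comp_id _).trans (Category.id_comp _).symm))
      X.toSpecΓ (pullback.fst g τ) := by
    refine IsPullback.of_bot ?_ (pullback.lift_fst _ _ _).symm (IsPullback.of_hasPullback g τ)
    simpa [hg] using IsPullback.of_hasPullback f τ
  exact (IsSchemeTheoreticallyDominant.of_isPullback H).ker_eq_bot

theorem main [IsDiscreteValuationRing A] {X : Scheme.{u}} (f : X ⟶ Spec (CommRingCat.of A)) [Flat f]
    [QuasiCompact f] [QuasiSeparated f] (g : Spec Γ(X, ⊤) ⟶ Spec (CommRingCat.of A)) (hg : X.toSpecΓ ≫ g = f)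
    (s : ↥(Spec (CommRingCat.of A))) :
    (pullback.map f ((Spec (CommRingCat.of A)).fromSpecResidueField s) g ((Spec (CommRingCat.of A)).fromSpecResidueField s)
        X.toSpecΓ (𝟙 _) (𝟙 _) ((Category.comp_id f).trans hg.symm)
        ((Category.comp_id _).trans (Category.id_comp _).symm)).ker = ⊥ := by
  by_cases hs : s.asIdeal = ⊥
  · haveI : Flat ((Spec (CommRingCat.of A)).fromSpecResidueField s) := by
      have hgen : s = genericPoint ↥(Spec (CommRingCat.of A)) := by
        rw [genericPoint_eq_bot_of_affine]; exact PrimeSpectrum.ext hs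
      subst hgen
      let _ : Field ((Spec (CommRingCat.of A)).presheaf.stalk (genericPoint ↥(Spec (CommRingCat.of A)))) :=
        inferInstanceAs (Field (Spec (CommRingCat.of A)).functionField)
      haveI : IsIso ((Spec (CommRingCat.of A)).residue (genericPoint ↥(Spec (CommRingCat.of A)))) :=
        (ConcreteCategory.isIso_iff_bijective _).2 ⟨RingHom.injective _, Scheme.residue_surjective _ _⟩
      rw [Scheme.fromSpecResidueField]
      haveI := GrpSchLib.flat_fromSpecStalk (X := Spec (CommRingCat.of A)) (genericPoint ↥(Spec (CommRingCat.of A)))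
      infer_instance
    exact ker_fibre_eq_bot_of_flat f g hg _
  · haveI : IsClosedImmersion ((Spec (CommRingCat.of A)).fromSpecResidueField s) := by
      rw [← isClosed_singleton_iff_isClosedImmersion]
      exact (PrimeSpectrum.isClosed_singleton_iff_isMaximal s).2 (s.isPrime.isMaximal hs)
    exact ker_fibre_eq_bot_of_closedImmersion f g hg _

end Groth.Agent.GrpdDvrFibre
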